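import Cfsg.Agent.Lib.Comp.P43n.Base

set_option maxRecDepth 100000
set_option Elab.async false

namespace Cfsg.Lib.Comp.P43n

universe u

noncomputable def nets_1 : Net :=
 (Net.cons 8 (nat_lit 0xe00008)
 (Net.cons 4 (nat_lit 0xe000800)
 (Net.cons 2 (nat_lit 0x20002200)
 (Net.cons 1 (nat_lit 0x44001450)
 (Net.cons 2 (nat_lit 0x21002230)
 (Net.cons 4 (nat_lit 0xc00090c)
 (Net.cons 8 (nat_lit 0xe0000a)
 Net.nil)))))))

noncomputable def nets_3 : Net :=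
 (Net.cons 16 (nat_lit 0xcc0)
 (Net.cons 8 (nat_lit 0x560072)
 (Net.cons 4 (nat_lit 0xa0008)
 (Net.cons 2 (nat_lit 0x22002)
 (Net.cons 1 (nat_lit 0x5011051)
 (Net.cons 2 (nat_lit 0x10230000)
 (Net.cons 4 (nat_lit 0x4000604)
 (Net.cons 8 (nat_lit 0x520046)
 (Net.cons 16 (nat_lit 0xb0c)
 Net.nil)))))))))

noncomputable def nets_5 : Net :=
 (Net.cons 16 (nat_lit 0x4000)
 (Net.cons 8 (nat_lit 0xe000e0)
 (Net.cons 4 (nat_lit 0x80e0402)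
 (Net.cons 2 (nat_lit 0x20000000)
 (Net.cons 1 (nat_lit 0x40505014)
 (Net.cons 2 (nat_lit 0x23010300)
 (Net.cons 4 (nat_lit 0x80e0402)
 (Net.cons 8 (nat_lit 0xe000e0)
 (Net.cons 16 (nat_lit 0x4000)
 Net.nil)))))))))

noncomputable def nets_6 : Net :=
 (Net.cons 16 (nat_lit 0x4660)
 (Net.cons 8 (nat_lit 0xc000b0)
 (Net.cons 4 (nat_lit 0x8000402)
 (Net.cons 2 (nat_lit 0x20)
 (Net.cons 1 (nat_lit 0x55041)
 (Net.cons 2 (nat_lit 0x3100220)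
 (Net.cons 4 (nat_lit 0x8000402)
 (Net.cons 8 (nat_lit 0xc000b0)
 (Net.cons 16 (nat_lit 0x4660)
 Net.nil)))))))))

noncomputable def nets_64 : Net :=
 (Net.cons 16 (nat_lit 0x2000)
 (Net.cons 8 (nat_lit 0x20000c)
 (Net.cons 4 (nat_lit 0xe0008)
 (Net.cons 2 (nat_lit 0x200002)
 (Net.cons 1 (nat_lit 0x454554)
 (Net.cons 2 (nat_lit 0x200332)
 (Net.cons 4 (nat_lit 0x20e000e)
 (Net.cons 8 (nat_lit 0x20000c)
 (Net.cons 16 (nat_lit 0x2000)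
 Net.nil)))))))))

noncomputable def nets_65 : Net :=
 (Net.cons 16 (nat_lit 0x8000)
 (Net.cons 8 (nat_lit 0x80)
 (Net.cons 4 (nat_lit 0x8000008)
 (Net.cons 2 (nat_lit 0x220000)
 (Net.cons 1 (nat_lit 0x5115550)
 (Net.cons 2 (nat_lit 0x3223330)
 (Net.cons 4 (nat_lit 0x8090908)
 (Net.cons 8 (nat_lit 0x810080)
 (Net.cons 16 (nat_lit 0x8000)
 Net.nil)))))))))

noncomputable def nets : List Net := (apd [Net.nil,
 nets_1,
 Net.rev nets_1,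
 nets_3,
 Net.rev nets_3,
 nets_5,
 nets_6,
 Net.nil,
 Net.nil,
 Net.nil,
 Net.nil,
 Net.nil,
 Net.nil,
 Net.nil,
 Net.nil,
 Net.nil,
 Net.nil,
 Net.nil,
 Net.nil,
 Net.nil,
 Net.nil,
 Net.nil,
 Net.nil,
 Net.nil,
 Net.nil,
 Net.nil,
 Net.nil,
 Net.nil,
 Net.nil,
 Net.nil,
 Net.nil,
 Net.nil,
 Net.nil,
 Net.nil,
 Net.nil,
 Net.nil,
 Net.nil,
 Net.nil,
 Net.nil,
 Net.nil]
 [Net.nil,
 Net.nil,
 Net.nil,
 Net.nil,
 Net.nil,
 Net.nil,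
 Net.nil,
 Net.nil,
 Net.nil,
 Net.nil,
 Net.nil,
 Net.nil,
 Net.nil,
 Net.nil,
 Net.nil,
 Net.nil,
 Net.nil,
 Net.nil,
 Net.nil,
 Net.nil,
 Net.nil,
 Net.nil,
 Net.nil,
 Net.nil,
 nets_64,
 nets_65])

theorem nets_ok : NetsOK 32 nets := netsOK_of (by decide +kernel)

theorem nets_rel : Rels (gp nets) R := rels_of_relsB (k := 5) nets_ok (by norm_num) (by decide +kernel)

theorem nets_iv : IvOK (gp nets) iv := ivOK_of_ivB (k := 5) nets_ok (by norm_num) (by decide +kernel)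

noncomputable def slp : List (ℕ × List ℕ) := [(64,[4,2,4,6,4]),
 (65,[1,5,64,5])]

theorem slp_ok : slpB 32 5 nets slp L = true := by decide +kernel

theorem mem_all {x : ℕ} (h : x ∈ L ++ slp.map (·.1)) : gp nets x ∈ cl (gp nets) L :=
  cl_eq_of_slpB nets_ok (by norm_num) slp_ok ▸ mem_cl h

theorem lb : 648 ≤ Nat.card (cl (gp nets) L) := by
  rw [← cl_eq_of_slpB nets_ok (by norm_num) slp_ok]
  exact lb_of_chainB nets_ok (C := [([1,2,5,64,65],[3,6,3,64,3,65,3],0,0,27),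
 ([65],[1,5,64,65,1],1,1,12),
 ([],[65],13,13,2)]) (by decide +kernel)

end Cfsg.Lib.Comp.P43n
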